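import Cfsg.Agent.H983.Pw.GTwoThreeData

/-!
# `G₂(3)` on 351 points: kernel checks (helper983)
-/

set_option autoImplicit false
set_option maxRecDepth 100000

namespace Cfsg.Agent.H983.Pw.G23

open Cfsg.Agent.SporadicA.PermTab

theorem wU1 : chkWord 351 U1 [T 3, T 0] = true := by decide +kernel
theorem sU1 : stepB 351 1 U1 3 0 UL0 [] [0] = true := by decide +kernel
theorem wU2 : chkWord 351 U2 [T 5, T 1, T 0, T 5] = true := by decide +kernel
theorem sU2 : stepB 351 3 U2 3 0 UL1 [1] [0] = true := by decide +kernel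
theorem wU3 : chkWord 351 U3 [T 2, T 5, T 1, T 0, T 5, T 2] = true := by decide +kernel
theorem sU3 : stepB 351 9 U3 3 0 UL2 [3, 1] [1] = true := by decide +kernel
theorem wU4 : chkWord 351 U4 [T 4, T 5, T 3, T 0, T 5, T 4] = true := by decide +kernel
theorem sU4 : stepB 351 27 U4 3 0 UL3 [9, 3, 1] [0] = true := by decide +kernel
theorem wU5 : chkWord 351 U5 [T 1, T 0] = true := by decide +kernel
theorem sU5 : stepB 351 81 U5 3 0 UL4 [27, 12, 3, 1] [0] = true := by decide +kernel
theorem wU6 : chkWord 351 U6 [T 5, T 3, T 4, T 3, T 0, T 5] = true := by decide +kernel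
theorem sU6 : stepB 351 243 U6 3 0 UL5 [122, 28, 9, 3, 1] [1] = true := by decide +kernel
theorem wC1 : chkWord 351 C1 [T 2, T 0, T 2, T 0] = true := by decide +kernel
theorem sC1 : stepB 351 1 C1 2 0 CL0 [] [1] = true := by decide +kernel
theorem wC2 : chkWord 351 C2 [T 2, T 0] = true := by decide +kernel
theorem sC2 : stepB 351 2 C2 2 1 CL1 [1] [0] = true := by decide +kernel
theorem wC3 : chkWord 351 C3 [T 0, T 1, T 2, T 0, T 1, T 0] = true := by decide +kernel
theorem sC3 : stepB 351 4 C3 2 1 CL2 [3, 1] [0] = true := by decide +kernel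
theorem wC4 : chkWord 351 C4 [T 4, T 0] = true := by decide +kernel
theorem sC4 : stepB 351 8 C4 2 1 CL3 [4, 2, 1] [1] = true := by decide +kernel
theorem wC5 : chkWord 351 C5 [T 0, T 3, T 4, T 0, T 3, T 0] = true := by decide +kernel
theorem sC5 : stepB 351 16 C5 2 1 CL4 [9, 4, 2, 1] [1] = true := by decide +kernel
theorem wC6 : chkWord 351 C6 [T 1, T 0] = true := by decide +kernel
theorem sC6 : stepB 351 32 C6 3 0 CL5 [16, 8, 6, 4, 1] [0] = true := by decide +kernel
theorem wC7 : chkWord 351 C7 [T 3, T 0] = true := by decide +kernel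
theorem sC7 : stepB 351 96 C7 3 0 CL6 [32, 24, 16, 4, 2, 1] [36] = true := by decide +kernel
theorem wC8 : chkWord 351 C8 [T 0] = true := by decide +kernel
theorem sC8 : stepB 351 288 C8 2 0 CL7 [192, 64, 25, 9, 7, 3, 1] [48, 3] = true := by decide +kernel
theorem wA0 : chkWord 351 A0 [T 5, T 2, T 1] = true := by decide +kernel
theorem cA0 : cycB 7 6 (lk A0) = true := by decide +kernel
theorem wA1 : chkWord 351 A1 [T 3, T 4, T 5, T 1, T 3, T 0] = true := by decide +kernel
theorem cA1 : cycB 7 6 (lk A1) = true := by decide +kernel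
theorem wA2 : chkWord 351 A2 [T 1, T 3, T 1, T 5, T 4] = true := by decide +kernel
theorem cA2 : cycB 7 6 (lk A2) = true := by decide +kernel
theorem wA3 : chkWord 351 A3 [T 5, T 2, T 1, T 3, T 0] = true := by decide +kernel
theorem cA3 : cycB 7 6 (lk A3) = true := by decide +kernel
theorem wA4 : chkWord 351 A4 [T 3, T 0, T 4, T 5, T 1, T 0] = true := by decide +kernel
theorem cA4 : cycB 7 6 (lk A4) = true := by decide +kernel
theorem wA5 : chkWord 351 A5 [T 3, T 2, T 5, T 0] = true := by decide +kernel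
theorem cA5 : cycB 7 6 (lk A5) = true := by decide +kernel
theorem wA6 : chkWord 351 A6 [T 5, T 1, T 2, T 0, T 1] = true := by decide +kernel
theorem cA6 : cycB 7 6 (lk A6) = true := by decide +kernel
theorem wA7 : chkWord 351 A7 [T 5, T 1, T 3, T 0, T 2] = true := by decide +kernel
theorem cA7 : cycB 7 6 (lk A7) = true := by decide +kernel
theorem wA8 : chkWord 351 A8 [T 3, T 1, T 5, T 4, T 1] = true := by decide +kernel
theorem cA8 : cycB 7 6 (lk A8) = true := by decide +kernel
theorem wA9 : chkWord 351 A9 [T 0, T 3, T 4, T 5, T 1, T 0] = true := by decide +kernel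
theorem cA9 : cycB 7 6 (lk A9) = true := by decide +kernel

theorem inv0 : chkInv 351 (T 0) (T 0) = true := by decide +kernel
theorem inv1 : chkInv 351 (T 1) (T 1) = true := by decide +kernel
theorem inv2 : chkInv 351 (T 2) (T 2) = true := by decide +kernel
theorem inv3 : chkInv 351 (T 3) (T 3) = true := by decide +kernel
theorem inv4 : chkInv 351 (T 4) (T 4) = true := by decide +kernel
theorem inv5 : chkInv 351 (T 5) (T 5) = true := by decide +kernel

theorem inv_all : ∀ j, chkInv 351 (T j) (T j) = true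
  | 0 => inv0
  | 1 => inv1
  | 2 => inv2
  | 3 => inv3
  | 4 => inv4
  | _ + 5 => inv5

/-- the tables of the witnesses -/
def As : List ℕ := [A0, A1, A2, A3, A4, A5, A6, A7, A8, A9]

theorem witU : allB (witB 7 6 UL6 A0 As WU) 729 = true := by decide +kernel
theorem witC : allB (witB 7 6 CL8 A0 As WC) 576 = true := by decide +kernel

end Cfsg.Agent.H983.Pw.G23
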