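import Cfsg.Agent.H983.Pw.GTwoThreeChk
import Cfsg.Agent.H64.G23Abs
import Cfsg.Agent.GTwoThree.Model
import Cfsg.Agent.S1055

/-!
# `G₂(3)` on 351 points: the isomorphism (helper983)

`J` : the group generated by the six involutions; `exists_iso : Nonempty (J ≃* chevG2.group (ZMod 3))`.
-/

set_option autoImplicit false
set_option maxRecDepth 100000

namespace Cfsg.Agent.H983.Pw.G23

open Cfsg.Agent.SporadicA.PermTab Cfsg.Agent.H64.G23Abs

/-- value of a word at a point -/
def ap : List ℕ → ℕ → ℕ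
  | [], p => p
  | l :: w, p => lk (T l) (ap w p)

/-- equality of two words -/
def chk (u v : List ℕ) : Bool := allB (fun p => Nat.beq (ap u p) (ap v p)) 351

/-- the letters -/
def S (j : ℕ) : Equiv.Perm (Fin 351) := mkPerm (T j) (T j) (inv_all j)

theorem S_rep (j : ℕ) : Rep (S j) (lk (T j)) := fun _ => rfl

/-- value of a word -/
def ev (w : List ℕ) : Equiv.Perm (Fin 351) := (w.map S).prod

theorem ev_val (w : List ℕ) (p : Fin 351) : (ev w p).val = ap w p.val := by
  induction w generalizing p with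
  | nil => rfl
  | cons l w ih =>
    show (S l (ev w p)).val = lk (T l) (ap w p)
    rw [← ih]
    rfl

theorem ev_nil : ev [] = 1 := rfl

theorem mulw (u v : List ℕ) : ev u * ev v = ev (u ++ v) := by
  unfold ev
  rw [List.map_append, List.prod_append]

theorem key (u v : List ℕ) (h : chk u v = true) : ev u = ev v := by
  apply Equiv.ext
  intro p
  apply Fin.ext
  rw [ev_val, ev_val]
  exact Nat.eq_of_beq_eq_true ((allB_iff _ _).1 h p p.2)

theorem invw {u v : List ℕ} (h : chk (u ++ v) [] = true) : (ev u)⁻¹ = ev v :=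
  inv_eq_of_mul_eq_one_right (by rw [mulw, key _ [] h, ev_nil])

/-- the relations -/
theorem relC : RelC (ev [0, 1]) (ev [0, 2]) (ev [0, 3]) (ev [0, 4]) (ev [0]) (ev [5]) where
  a3 := by rw [pow_three', mulw, mulw]; exact key _ [] (by decide +kernel)
  c3 := by rw [pow_three', mulw, mulw]; exact key _ [] (by decide +kernel)
  b4 := by rw [pow_succ, pow_three', mulw, mulw, mulw]; exact key _ [] (by decide +kernel)
  bd2 := by rw [mulw, mulw]; exact key _ _ (by decide +kernel)
  rr := by rw [mulw]; exact key _ [] (by decide +kernel)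
  tt := by rw [mulw]; exact key _ [] (by decide +kernel)
  ad := by rw [mulw, mulw]; exact key _ _ (by decide +kernel)
  bc := by rw [mulw, mulw]; exact key _ _ (by decide +kernel)
  bd := by rw [mulw, mulw]; exact key _ _ (by decide +kernel)
  ab3 := by rw [pow_three', mulw, mulw, mulw]; exact key _ [] (by decide +kernel)
  cd3 := by rw [pow_three', mulw, mulw, mulw]; exact key _ [] (by decide +kernel)
  za := by rw [mulw, mulw, mulw]; exact key _ _ (by decide +kernel)
  zc := by rw [mulw, mulw, mulw]; exact key _ _ (by decide +kernel)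
  ra := by
    rw [mulw, mulw]
    exact eq_inv_of_mul_eq_one_left (by rw [mulw]; exact key _ [] (by decide +kernel))
  rb := by
    rw [mulw, mulw]
    exact eq_inv_of_mul_eq_one_left (by rw [mulw]; exact key _ [] (by decide +kernel))
  rc := by
    rw [mulw, mulw]
    exact eq_inv_of_mul_eq_one_left (by rw [mulw]; exact key _ [] (by decide +kernel))
  rd := by
    rw [mulw, mulw]
    exact eq_inv_of_mul_eq_one_left (by rw [mulw]; exact key _ [] (by decide +kernel))
  bt3 := by rw [pow_three', mulw, mulw, mulw]; exact key _ [] (by decide +kernel)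
  te := by simp only [mulw]; exact key _ _ (by decide +kernel)
  tz := by simp only [mulw]; exact key _ _ (by decide +kernel)
  k1 := by simp only [mulw]; exact key _ _ (by decide +kernel)
  k2 := by
    have h : (ev ([5] ++ ([0, 2] ++ [0, 4])))⁻¹ = ev [4, 0, 2, 0, 5] := invw (by decide +kernel)
    simp only [mulw, h]
    exact key _ _ (by decide +kernel)
  k3 := by simp only [mulw]; exact key _ _ (by decide +kernel)

theorem ac_comm : ev [0, 1] * ev [0, 3] = ev [0, 3] * ev [0, 1] := by
  rw [mulw, mulw]; exact key _ _ (by decide +kernel)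

theorem a_ne : ev [0, 1] ≠ 1 := by
  intro h
  have h1 : (ev [0, 1] 0).val = ((1 : Equiv.Perm (Fin 351)) 0).val := by rw [h]
  rw [ev_val] at h1
  revert h1
  decide +kernel

/-- the generators -/
abbrev gens : Set (Equiv.Perm (Fin 351)) := {ev [0, 1], ev [0, 2], ev [0, 3], ev [0, 4], ev [0], ev [5]}

/-- **The group** -/
abbrev J : Subgroup (Equiv.Perm (Fin 351)) := Subgroup.closure gens

theorem mem_a : ev [0, 1] ∈ J := Subgroup.subset_closure (by simp [gens])
theorem mem_b : ev [0, 2] ∈ J := Subgroup.subset_closure (by simp [gens])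
theorem mem_c : ev [0, 3] ∈ J := Subgroup.subset_closure (by simp [gens])
theorem mem_d : ev [0, 4] ∈ J := Subgroup.subset_closure (by simp [gens])
theorem mem_r : ev [0] ∈ J := Subgroup.subset_closure (by simp [gens])
theorem mem_t : ev [5] ∈ J := Subgroup.subset_closure (by simp [gens])

theorem mem_S {j : ℕ} (h : ev [0, j] ∈ J) : S j ∈ J := by
  have e : S j = ev [0] * ev [0, j] := by
    have e1 : ev [0] * ev [0, j] = ev [0] * ev [0] * ev [j] := by rw [mul_assoc, mulw, mulw, mulw]; rfl
    rw [e1, relC.rr, one_mul]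
    exact (mul_one _).symm
  rw [e]
  exact mul_mem mem_r h

theorem inG_T : ∀ j, InG J (T j)
  | 0 => ⟨S 0, (by simpa [ev] using mem_r : S 0 ∈ J), S_rep 0⟩
  | 1 => ⟨S 1, mem_S mem_a, S_rep 1⟩
  | 2 => ⟨S 2, mem_S mem_b, S_rep 2⟩
  | 3 => ⟨S 3, mem_S mem_c, S_rep 3⟩
  | 4 => ⟨S 4, mem_S mem_d, S_rep 4⟩
  | _ + 5 => ⟨S 5, (by simpa [ev] using mem_t : S 5 ∈ J), S_rep 5⟩

theorem relC_lift : RelC (⟨_, mem_a⟩ : J) ⟨_, mem_b⟩ ⟨_, mem_c⟩ ⟨_, mem_d⟩ ⟨_, mem_r⟩ ⟨_, mem_t⟩ where
  a3 := Subtype.ext relC.a3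
  c3 := Subtype.ext relC.c3
  b4 := Subtype.ext relC.b4
  bd2 := Subtype.ext relC.bd2
  rr := Subtype.ext relC.rr
  tt := Subtype.ext relC.tt
  ad := Subtype.ext relC.ad
  bc := Subtype.ext relC.bc
  bd := Subtype.ext relC.bd
  ab3 := Subtype.ext relC.ab3
  cd3 := Subtype.ext relC.cd3
  za := Subtype.ext relC.za
  zc := Subtype.ext relC.zc
  ra := Subtype.ext relC.ra
  rb := Subtype.ext relC.rb
  rc := Subtype.ext relC.rc
  rd := Subtype.ext relC.rd
  bt3 := Subtype.ext relC.bt3
  te := Subtype.ext relC.te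
  tz := Subtype.ext relC.tz
  k1 := Subtype.ext relC.k1
  k2 := Subtype.ext relC.k2
  k3 := Subtype.ext relC.k3

theorem closure_lift : Subgroup.closure {(⟨_, mem_a⟩ : J), ⟨_, mem_b⟩, ⟨_, mem_c⟩, ⟨_, mem_d⟩, ⟨_, mem_r⟩,
    ⟨_, mem_t⟩} = ⊤ := by
  have h1 := Subgroup.closure_closure_coe_preimage (k := gens)
  have h2 : (Subtype.val : J → Equiv.Perm (Fin 351)) ⁻¹' gens = {(⟨_, mem_a⟩ : J), ⟨_, mem_b⟩, ⟨_, mem_c⟩,
      ⟨_, mem_d⟩, ⟨_, mem_r⟩, ⟨_, mem_t⟩} := by
    ext x
    simp only [gens, Set.mem_preimage, Set.mem_insert_iff, Set.mem_singleton_iff, Subtype.ext_iff]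
  rw [← h2]
  exact h1

/-! ### the centre is trivial -/

/-- orbit certificate from the point 283 -/
def Orb : ℕ := 0xb410819058068140220580741101804a0a41581904609010812054080090230480881601c0580ac1001a0420941502a0380441202d040094108280420541501004a0880d02d058080128190300740e8200420b41102504a094128100000441682d0440740e81803a0600c8220340b41482c0320ac0982d0440900e82c026094148230460a01601d0300881681305406c1102a04806c168210300a0168240440600d02305a0a41501905808c0d02803608c1600a0500a80d01d0120200c02503a0b41682d04a0940e8210340540e02a05a0a80e01503a07410815044094168140480700e024046070060240420801181c0380800801c0380901081c058064118110380881281c0280701201b0280641002403806c1201c0220500c01a0420a4058240480400c0130420941601d0440941182403a064128290240941181b0340741002d0540ac1182d06806c1a0230500ac1a82d0460800d83503608c188290420c4118230660ac118340440ac1483405a06c1182b0460b01402d0360d4128200680ac1182d0480a41e01b046090118230680b01a0230540ac1a034066090140240540ac1582b0580ac1202c0560cc1903305608c168290560c41682d06a0ac1a83d0500a41682b04a0d41182b0620c01403305a0ac1e8320540cc1983307a0cc19843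

theorem orb_chk : chkOrb 351 283 (T 0) [T 0, T 1, T 2, T 3, T 4, T 5] Orb = true := by decide +kernel

theorem orb_all : allB (fun v => nbeq (lk Orb v) 2047) 351 = true := by decide +kernel

theorem trans (v : Fin 351) : ∃ g ∈ J, g 283 = v :=
  orb_of_chk (n := 351) (x := (283 : Fin 351)) (inG_T 0) (by
    intro P hP
    simp only [List.mem_cons, List.not_mem_nil, or_false] at hP
    rcases hP with rfl | rfl | rfl | rfl | rfl | rfl <;> exact inG_T _) orb_chk v
    ((nbeq_iff _ _).1 ((allB_iff _ _).1 orb_all v v.2))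

/-- the table `A3` fixes the point 283 only -/
theorem fix_chk : allB (fun i => cond (Nat.beq i 283) true (nbeq (lk A3 i) i)) 351 = true := by
  decide +kernel

theorem fix_chk' : Nat.beq (lk A3 283) 283 = true := by decide +kernel

theorem inG_of_word {P : ℕ} {L : List ℕ} (hL : ∀ Q ∈ L, ∃ j, Q = T j) (h : chkWord 351 P L = true) :
    InG J P :=
  InG.word (fun Q hQ => by obtain ⟨j, rfl⟩ := hL Q hQ; exact inG_T j) h

theorem center_J : Subgroup.center ↥J = ⊥ := by
  rw [eq_bot_iff]
  rintro ⟨k, hk⟩ hkc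
  rw [Subgroup.mem_center_iff] at hkc
  have hkc' : ∀ g ∈ J, g * k = k * g := fun g hg => congrArg Subtype.val (hkc ⟨g, hg⟩)
  obtain ⟨h, hh, hr⟩ := inG_of_word (L := [T 5, T 2, T 1, T 3, T 0]) (by
    intro Q hQ
    simp only [List.mem_cons, List.not_mem_nil, or_false] at hQ
    rcases hQ with rfl | rfl | rfl | rfl | rfl <;> exact ⟨_, rfl⟩) wA3
  have h0 : h 283 = 283 := by
    apply Fin.ext
    rw [hr 283]
    exact Nat.eq_of_beq_eq_true fix_chk'
  have h1 : h (k 283) = k 283 := by
    rw [← Equiv.Perm.mul_apply, hkc' h hh, Equiv.Perm.mul_apply, h0]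
  have h2 : k 283 = 283 := by
    by_contra hne
    have h3 := (allB_iff _ _).1 fix_chk (k 283) (k 283).2
    cases hb : Nat.beq ((k 283 : Fin 351) : ℕ) 283 with
    | true => exact hne (Fin.ext (Nat.eq_of_beq_eq_true hb))
    | false =>
      rw [hb, cond_false, nbeq_iff] at h3
      exact h3 (by rw [← hr (k 283), h1])
  rw [Subgroup.mem_bot]
  apply Subtype.ext
  apply Equiv.ext
  intro v
  obtain ⟨g, hg, rfl⟩ := trans v
  show k (g 283) = g 283
  rw [← Equiv.Perm.mul_apply, ← hkc' g hg, Equiv.Perm.mul_apply, h2]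

/-- **`J` is `G₂(3)`** -/
theorem exists_iso : Nonempty (↥J ≃* ↥(Cfsg.Lie.chevG2.group (ZMod 3))) := by
  obtain ⟨a', b', c', d', r', t', h', ha', hgen'⟩ := Cfsg.Agent.GTwoThree.Model.model
  have hsimp : IsSimpleGroup ↥(Cfsg.Lie.chevG2.group (ZMod 3)) :=
    (Cfsg.Agent.S1055.result (F := ZMod 3) ⟨2, by decide, by decide⟩).1
  have hac : (⟨_, mem_a⟩ : J) * ⟨_, mem_c⟩ = ⟨_, mem_c⟩ * ⟨_, mem_a⟩ := Subtype.ext ac_comm
  have ha : (⟨_, mem_a⟩ : J) ≠ 1 := fun h => a_ne (congrArg Subtype.val h)
  obtain ⟨ρ, hs, hk⟩ := exists_hom (relC_lift.toRel hac) ha closure_lift h' ha' hgen'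
  have hi : Function.Injective ρ := by
    rw [← MonoidHom.ker_eq_bot_iff, eq_bot_iff, ← center_J]
    exact hk
  exact ⟨MulEquiv.ofBijective ρ ⟨hi, hs⟩⟩

end Cfsg.Agent.H983.Pw.G23
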